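import Groth.Agent.Sga2lef.H95.RegExact
import Groth.Agent.Sga2lef.H95.IdealBase
import Groth.Agent.Sga2lef.H96.ModSysRec
import Groth.Agent.FormalB.PuncAlg
import Groth.Agent.CohqA.AffPush
import Groth.Agent.S0822

/-!
# Algebraization of a `t`-regular coherent formal module on a punctured spectrum, from finiteness of `H^0` and `H^1`

Author: helper95
-/

set_option autoImplicit false
universe u

open CategoryTheory CategoryTheory.Limits AlgebraicGeometry Opposite

namespace Groth.Agent.Sga2lef.H95.Assemble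

open Groth.Agent.FormalB.ModPow Groth.Agent.FormalB.PrincTower Groth.Agent.FormalB.KQuot
  Groth.Agent.Sga2lef.H96.ModSysPush Groth.Agent.Sga2lef.H96.ModSysRec IdealBase

section Sys

variable {A : Type u} [CommRing A] {X : Scheme.{u}} [X.Over (Spec (CommRingCat.of A))] {J : Ideal A}
  {𝓘 : X.IdealSheafData}
  (h𝓘 : ∀ V : X.affineOpens, 𝓘.ideal V = J.map (Groth.Agent.FormalB.ModPowAff.toΓ A X V.1))
  (𝔐 : FSch.ModSys (FSch.completionAlong X 𝓘))

include h𝓘 in
/-- The direct images of the terms form a formal system for `J`. -/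
theorem isFormal_toSys : IsFormal J (toSys 𝔐) where
  killed n := (killedBy_iff (pow_ideal h𝓘 (n + 1)) _).2 (killed_pm 𝔐 n)
  succ n := by
    rw [toSys_map_succ]
    exact isModPow_of_isKQuot (pow_ideal h𝓘 (n + 1)) (isKQuot_ptr 𝔐 n)

include h𝓘 in
/-- An algebraization of the system of direct images is an algebraization of `𝔐`. -/
theorem nonempty_iso_of_completion {F : X.Modules} (hF : Coh.IsQCoh F)
    (e : Formal.completion J F ≅ toSys 𝔐) : Nonempty (FSch.completionMod 𝓘 F ≅ 𝔐) := by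
  have hp : ∀ n, IsModPow (J ^ (n + 1)) (cπ J F n ≫ e.hom.app (op n)) := fun n =>
    (isModPow_cπ J F n).comp_iso _
  refine nonempty_iso_of_isKQuot 𝔐 F hF (fun n => cπ J F n ≫ e.hom.app (op n))
    (fun n => isKQuot_of_isModPow (pow_ideal h𝓘 (n + 1)) (hp n)) (fun n => ?_)
  have h1 := nat_succ e.hom n
  rw [toSys_map_succ] at h1
  rw [Category.assoc]
  refine (congrArg (fun k => cπ J F (n + 1) ≫ k) h1.symm).trans ?_
  exact cπ_map_succ_assoc J F n (e.hom.app (op n))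

theorem isCoh_pm (n : ℕ) (h : Coh.IsCoh (𝔐.F n)) : Coh.IsCoh (pm 𝔐 n) :=
  ⟨Groth.Agent.CohqA.AffPush.isQCoh_push (𝓘 ^ (n + 1)).subschemeι _ h.1,
    Groth.Agent.CohqA.AffPush.isFT_push (𝓘 ^ (n + 1)).subschemeι _ h.1 h.2⟩

end Sys

theorem comp_eq_zero {A : Type u} [CommRing A] {X : Scheme.{u}} (f : X ⟶ Spec (CommRingCat.of A)) (t : A)
    (𝔐 : FSch.ModSys (FSch.completionAlong X (idl (Ideal.span {t}) f))) (n : ℕ) :
    letI : X.Over (Spec (CommRingCat.of A)) := ⟨f⟩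
    Formal.smulMod A (pm 𝔐 n) (t ^ n) ≫ Formal.smulMod A (pm 𝔐 n) t = 0 := by
  letI : X.Over (Spec (CommRingCat.of A)) := ⟨f⟩
  have h𝓘 : ∀ V : X.affineOpens, (idl (Ideal.span {t}) f).ideal V =
        (Ideal.span {t}).map (Groth.Agent.FormalB.ModPowAff.toΓ A _ V.1) :=
    fun V => idl_ideal (Ideal.span {t}) f V
  rw [← smulMod_mul]
  refine (isFormal_toSys h𝓘 𝔐).killed n _ ?_
  rw [← pow_succ']
  exact Ideal.pow_mem_pow (Ideal.mem_span_singleton_self t) _

variable (A : Type u) [CommRing A] [IsLocalRing A] [IsNoetherianRing A] (t : A)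
  [IsAdicComplete (Ideal.span {t}) A]

theorem main (U : (Spec (CommRingCat.of A)).Opens)
    (hU : U = LocCoh.puncturedOpen A (IsLocalRing.maximalIdeal A))
    (𝔐 : FSch.ModSys (FSch.completionAlong (U : Scheme.{u}) (idl (Ideal.span {t}) U.ι)))
    (hcoh : 𝔐.IsCoh)
    (hex : ∀ n, ∃ w : Formal.smulMod A (pm 𝔐 (n + 1)) (t ^ (n + 1)) ≫
      Formal.smulMod A (pm 𝔐 (n + 1)) t = 0, (ShortComplex.mk _ _ w).Exact)
    (h0 : Module.Finite A (Coh.HH (U : Scheme.{u}) (pm 𝔐 0) 0))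
    (h1 : Module.Finite A (Coh.HH (U : Scheme.{u}) (pm 𝔐 0) 1)) :
    ∃ F : (U : Scheme.{u}).Modules, Coh.IsCoh F ∧
      Nonempty (FSch.completionMod (idl (Ideal.span {t}) U.ι) F ≅ 𝔐) := by
  subst hU
  have h𝓘 : ∀ V : (LocCoh.puncturedOpen A (IsLocalRing.maximalIdeal A) : Scheme.{u}).affineOpens,
      (idl (Ideal.span {t}) (LocCoh.puncturedOpen A (IsLocalRing.maximalIdeal A)).ι).ideal V =
        (Ideal.span {t}).map (Groth.Agent.FormalB.ModPowAff.toΓ A _ V.1) :=
    fun V => idl_ideal (Ideal.span {t}) (LocCoh.puncturedOpen A (IsLocalRing.maximalIdeal A)).ι V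
  have hfor := isFormal_toSys h𝓘 𝔐
  have hmono : ∀ n, Mono (mu hfor n) := fun n => by
    obtain ⟨w, hw⟩ := hex n
    exact RegExact.mono_mu_of_exact hfor n w hw
  have hUc : IsCompact (LocCoh.puncturedOpen A (IsLocalRing.maximalIdeal A) :
      Set (Spec (CommRingCat.of A))) := Groth.Agent.FormalA.InjSec.isCompact_opens _
  obtain ⟨F, hF, ⟨e⟩⟩ := Groth.Agent.FormalB.PuncAlg.algebraize A _ t (IsLocalRing.maximalIdeal A)
    (Groth.Agent.S0822.not_le _) hUc (toSys 𝔐) hfor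
    (fun n => (isCoh_pm 𝔐 n (hcoh n)).1) hmono h0
    (fun n x => Groth.Agent.S0822.torsion_of_coh _ ((toSys 𝔐).obj (op n)) (isCoh_pm 𝔐 n (hcoh n)) x) 0 (by
      have : IsNoetherian A ((Groth.Agent.FormalB.HMod.HM A
          (LocCoh.puncturedOpen A (IsLocalRing.maximalIdeal A) : Scheme.{u}) 1).obj
          ((toSys 𝔐).obj (op 0))) := @isNoetherian_of_isNoetherianRing_of_finite A _ _ _ _ _ h1
      exact IsNoetherian.noetherian _)
  exact ⟨F, hF, nonempty_iso_of_completion h𝓘 𝔐 hF.1 e⟩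

end Groth.Agent.Sga2lef.H95.Assemble
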